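import Groth.Agent.Lib.DirImg8.Basic
import Groth.Agent.Lib.QCoh.Abelian
import Groth.Agent.Lib.QCoh.Filtration
import Groth.Agent.Lib.QCoh.Qcqs
import Groth.Agent.Lib.SheafCoh.ModColim
import Mathlib.CategoryTheory.Limits.Preserves.Basic

/-!
# Direct images along affine morphisms commute with colimits of quasi-coherent modules
-/

set_option autoImplicit false
set_option backward.isDefEq.respectTransparency false
set_option linter.style.haveILetI false

universe u

open CategoryTheory CategoryTheory.Limits AlgebraicGeometry TopologicalSpace Opposite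

noncomputable section

namespace GrothLib.DirImg8

variable {X S : Scheme.{u}} {J : Type u} [SmallCategory J]

/-- Sections on an open, as abelian groups. -/
abbrev secAb (W : X.Opens) : X.Modules ⥤ AddCommGrpCat.{u} :=
  Scheme.Modules.toPresheaf X ⋙ (evaluation _ _).obj (op W)

theorem preservesColimit_moduleSpecΓ {R : CommRingCat.{u}} (F : J ⥤ (Spec R).Modules)
    (hF : ∀ j, (F.obj j).IsQuasicoherent) : PreservesColimit F (moduleSpecΓFunctor (R := R)) := by
  let G : J ⥤ ModuleCat.{u} R := F ⋙ moduleSpecΓFunctor (R := R)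
  let e : G ⋙ tilde.functor R ≅ F :=
    NatIso.ofComponents (fun j ↦ @asIso _ _ _ _ (F.obj j).fromTildeΓ
        (@Scheme.Modules.isIso_fromTildeΓ_of_isQuasicoherent _ (F.obj j) (hF j)))
      (fun {i j} f ↦ (tilde.adjunction (R := R)).counit.naturality (F.map f))
  have η : tilde.functor R ⋙ moduleSpecΓFunctor (R := R) ≅ 𝟭 _ :=
    (asIso (tilde.adjunction (R := R)).unit).symm
  haveI h1 : PreservesColimit (G ⋙ tilde.functor R) (moduleSpecΓFunctor (R := R)) := by
    refine preservesColimit_of_preserves_colimit_cocone (isColimitOfPreserves (tilde.functor R) (colimit.isColimit G)) ?_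
    haveI : PreservesColimit G (tilde.functor R ⋙ moduleSpecΓFunctor (R := R)) := preservesColimit_of_natIso G η.symm
    exact isColimitOfPreserves (tilde.functor R ⋙ moduleSpecΓFunctor (R := R)) (colimit.isColimit G)
  exact preservesColimit_of_iso_diagram _ e

/-- The open immersion of an affine open sees its sections. -/
def secAbIso {W : X.Opens} (hW : IsAffineOpen W) :
    Scheme.Modules.restrictFunctor hW.fromSpec ⋙ moduleSpecΓFunctor (R := Γ(X, W)) ⋙
      forget₂ (ModuleCat Γ(X, W)) AddCommGrpCat ≅ secAb W :=
  have et : hW.fromSpec ''ᵁ ⊤ = W := by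
    rw [Scheme.Hom.image_top_eq_opensRange, hW.opensRange_fromSpec]
  NatIso.ofComponents
    (fun M => M.restrictAppIso hW.fromSpec ⊤ ≪≫ M.presheaf.mapIso (eqToIso (congrArg op et)))
    (fun {M N} φ => by
      ext m
      exact ((ConcreteCategory.congr_hom (φ.mapPresheaf.naturality (eqToHom (congrArg op et))) m)).symm)

theorem preservesColimit_secAb (F : J ⥤ X.Modules) (hF : ∀ j, (F.obj j).IsQuasicoherent)
    {W : X.Opens} (hW : IsAffineOpen W) : PreservesColimit F (secAb W) := by
  haveI := preservesColimit_moduleSpecΓ (F ⋙ Scheme.Modules.restrictFunctor hW.fromSpec)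
    (fun j ↦ have := hF j; inferInstanceAs ((F.obj j).restrict hW.fromSpec).IsQuasicoherent)
  exact preservesColimit_of_natIso F (secAbIso hW)

variable (f : X ⟶ S) [IsAffineHom f]

theorem preservesColimit_pushforward (F : J ⥤ X.Modules) (hF : ∀ j, (F.obj j).IsQuasicoherent) :
    PreservesColimit F (Scheme.Modules.pushforward f) := by
  haveI := QCoh.isQuasicoherent_colimit F hF
  have hP : ∀ j, ((F ⋙ Scheme.Modules.pushforward f).obj j).IsQuasicoherent := fun j => by
    haveI := hF j
    exact QCoh.isQuasicoherent_pushforward f _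
  haveI := QCoh.isQuasicoherent_colimit (F ⋙ Scheme.Modules.pushforward f) hP
  haveI : ((Scheme.Modules.pushforward f).obj (colimit F)).IsQuasicoherent := QCoh.isQuasicoherent_pushforward f _
  haveI : IsIso (colimit.post F (Scheme.Modules.pushforward f)) := by
    refine QCoh.isIso_of_bijective_on_cover _ (fun U : S.affineOpens => U.1) (iSup_affineOpens_eq_top S)
      (fun U => U.2) fun U => ?_
    haveI := preservesColimit_secAb (F ⋙ Scheme.Modules.pushforward f) hP U.2
    haveI := preservesColimit_secAb F hF (U.2.preimage f)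
    haveI : PreservesColimit F (Scheme.Modules.pushforward f ⋙ secAb U.1) :=
      inferInstanceAs (PreservesColimit F (secAb (f ⁻¹ᵁ U.1)))
    have h := colimit.post_post F (Scheme.Modules.pushforward f) (secAb U.1)
    haveI : IsIso (colimit.post (F ⋙ Scheme.Modules.pushforward f) (secAb U.1) ≫
        (secAb U.1).map (colimit.post F (Scheme.Modules.pushforward f))) := by
      rw [h]; infer_instance
    haveI : IsIso ((secAb U.1).map (colimit.post F (Scheme.Modules.pushforward f))) :=
      IsIso.of_isIso_comp_left (colimit.post (F ⋙ Scheme.Modules.pushforward f) (secAb U.1)) _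
    exact (ConcreteCategory.isIso_iff_bijective ((secAb U.1).map (colimit.post F (Scheme.Modules.pushforward f)))).1 this
  exact preservesColimit_of_isIso_post _ _

theorem preservesColimit_dirImg (F : J ⥤ X.Modules) (hF : ∀ j, (F.obj j).IsQuasicoherent) :
    PreservesColimit F (AMod.dirImg f) := by
  haveI := SheafCoh.preservesColimitsOfSize_toSheaf.{u} (AMod.ringSheaf (RelSpec.QCAlg.directImage f))
  haveI := SheafCoh.preservesColimitsOfSize_toSheaf.{u} S.ringCatSheaf
  haveI : ReflectsColimitsOfShape J (SheafOfModules.toSheaf.{u} S.ringCatSheaf) :=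
    reflectsColimitsOfShape_of_reflectsIsomorphisms
  haveI : PreservesColimitsOfShape J
      (AMod.toOS (RelSpec.QCAlg.directImage f) ⋙ SheafOfModules.toSheaf.{u} S.ringCatSheaf) :=
    inferInstanceAs (PreservesColimitsOfShape J (SheafOfModules.toSheaf.{u} (AMod.ringSheaf (RelSpec.QCAlg.directImage f))))
  haveI : PreservesColimitsOfShape J (AMod.toOS (RelSpec.QCAlg.directImage f)) :=
    preservesColimitsOfShape_of_reflects_of_preserves _ (SheafOfModules.toSheaf.{u} S.ringCatSheaf)
  haveI : (AMod.toOS (RelSpec.QCAlg.directImage f)).ReflectsIsomorphisms := by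
    haveI : (SheafOfModules.toSheaf.{u} (AMod.ringSheaf (RelSpec.QCAlg.directImage f))).ReflectsIsomorphisms :=
      inferInstance
    refine ⟨fun {A B} g hg => ?_⟩
    haveI : IsIso ((SheafOfModules.toSheaf.{u} (AMod.ringSheaf (RelSpec.QCAlg.directImage f))).map g) :=
      inferInstanceAs (IsIso ((SheafOfModules.toSheaf.{u} S.ringCatSheaf).map
        ((AMod.toOS (RelSpec.QCAlg.directImage f)).map g)))
    exact isIso_of_reflects_iso g (SheafOfModules.toSheaf.{u} (AMod.ringSheaf (RelSpec.QCAlg.directImage f)))
  haveI : ReflectsColimitsOfShape J (AMod.toOS (RelSpec.QCAlg.directImage f)) :=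
    reflectsColimitsOfShape_of_reflectsIsomorphisms
  haveI : PreservesColimit F (AMod.dirImg f ⋙ AMod.toOS (RelSpec.QCAlg.directImage f)) := by
    rw [AMod.toOS_dirImg]
    exact preservesColimit_pushforward f F hF
  exact preservesColimit_of_reflects_of_preserves (AMod.dirImg f) (AMod.toOS (RelSpec.QCAlg.directImage f))

end GrothLib.DirImg8
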