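import Groth.Agent.Lib.DirImg8.Basic
import Groth.Agent.Lib.Cohom.AffineSections
import Groth.Agent.Lib.AffHom.Basic

/-!
# Homomorphisms of direct images along an affine morphism
-/

set_option autoImplicit false
set_option backward.isDefEq.respectTransparency false
set_option linter.style.haveILetI false

universe u

open CategoryTheory CategoryTheory.Limits AlgebraicGeometry TopologicalSpace Opposite

namespace GrothLib.DirImg8

variable {X S : Scheme.{u}}

/-- Sections of a quasi-coherent module on an affine open vanishing on a basic open are killed by a power. -/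
theorem exists_pow_smul_eq_zero {U : X.Opens} (hU : IsAffineOpen U) (M : X.Modules)
    [M.IsQuasicoherent] (g : Γ(X, U)) (t : Γ(M, U))
    (ht : M.presheaf.map (homOfLE (X.basicOpen_le g)).op t = 0) : ∃ n : ℕ, g ^ n • t = 0 := by
  let M' : (Spec Γ(X, U)).Modules := M.restrict hU.fromSpec
  have : IsIso M'.fromTildeΓ := inferInstance
  have hloc := (isIso_fromTildeΓ_iff_isLocalizing M').1 this g
  have eb : hU.fromSpec ''ᵁ PrimeSpectrum.basicOpen g = X.basicOpen g := hU.fromSpec_image_basicOpen g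
  have et : hU.fromSpec ''ᵁ ⊤ = U := by
    rw [Scheme.Hom.image_top_eq_opensRange, hU.opensRange_fromSpec]
  let t' : Γ(M', ⊤) := (M.restrictAppIso hU.fromSpec _).inv (M.presheaf.map (eqToHom et).op t)
  have h0 : M'.presheaf.map (PrimeSpectrum.basicOpen g).leTop.op t' = 0 := by
    apply (ConcreteCategory.bijective_of_isIso (M.restrictAppIso hU.fromSpec _).hom).1
    change M.presheaf.map (homOfLE (Scheme.Hom.image_mono hU.fromSpec le_top)).op
        ((M.restrictAppIso hU.fromSpec ⊤).hom t') = _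
    rw [map_zero]
    simp only [t', Iso.inv_hom_id_apply]
    have := congrArg (M.presheaf.map (eqToHom eb).op) ht
    rw [map_zero, Cohom.map_map_apply] at this
    rw [Cohom.map_map_apply]
    exact this
  obtain ⟨⟨_, n, rfl⟩, hn⟩ := hloc.exists_of_eq (x₁ := t') (x₂ := 0) (by rw [map_zero]; exact h0)
  refine ⟨n, ?_⟩
  replace hn : g ^ n • t' = 0 := hn.trans (smul_zero _)
  have hl : hU.fromSpec ''ᵁ ⊤ ≤ U := et.le
  have key := congrArg (M.restrictAppIso hU.fromSpec ⊤).hom hn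
  rw [map_zero, Scheme.Modules.smul_Spec_def, Scheme.Modules.smul_restrictAppIso_hom_apply,
    Cohom.appIso_inv_fromSpec hU _ _ hl] at key
  simp only [t', Iso.inv_hom_id_apply] at key
  have h2 := congrArg (M.presheaf.map (eqToHom et.symm).op) key
  rw [map_zero, Scheme.Modules.map_smul, Cohom.ringMap_map_apply, Cohom.map_map_apply, Cohom.map_self_apply] at h2
  simpa using h2

/-- A function is a unit on its basic open. -/
theorem isUnit_res {U : X.Opens} (g : Γ(X, U)) (n : ℕ) :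
    IsUnit ((X.presheaf.map (homOfLE (X.basicOpen_le g)).op g) ^ n) :=
  (RingedSpace.isUnit_res_basicOpen X.toRingedSpace g).pow n

variable (f : X ⟶ S) [IsAffineHom f] {F G : X.Modules}
  (φ : (AMod.dirImg f).obj F ⟶ (AMod.dirImg f).obj G)

/-- The component of a homomorphism of direct images over an open of the base. -/
def phiApp (U : S.Opens) (t : Γ(F, f ⁻¹ᵁ U)) : Γ(G, f ⁻¹ᵁ U) := φ.val.app (op U) t

theorem phiApp_smul (U : S.Opens) (c : Γ(X, f ⁻¹ᵁ U)) (t : Γ(F, f ⁻¹ᵁ U)) :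
    phiApp f φ U (c • t) = c • phiApp f φ U t := (φ.val.app (op U)).hom.map_smul c t

theorem phiApp_sub (U : S.Opens) (s t : Γ(F, f ⁻¹ᵁ U)) :
    phiApp f φ U (s - t) = phiApp f φ U s - phiApp f φ U t := (φ.val.app (op U)).hom.map_sub s t

theorem phiApp_add (U : S.Opens) (s t : Γ(F, f ⁻¹ᵁ U)) :
    phiApp f φ U (s + t) = phiApp f φ U s + phiApp f φ U t := (φ.val.app (op U)).hom.map_add s t

theorem phiApp_res {U U' : S.Opens} (h : U' ≤ U) (t : Γ(F, f ⁻¹ᵁ U)) :
    G.presheaf.map (homOfLE (f.preimage_mono h)).op (phiApp f φ U t) =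
      phiApp f φ U' (F.presheaf.map (homOfLE (f.preimage_mono h)).op t) :=
  (PresheafOfModules.naturality_apply φ.val (homOfLE h).op t).symm

/-- Vanishing is local, also for the image. -/
theorem res_phiApp_eq_zero [F.IsQuasicoherent] {U : S.Opens} (hU : IsAffineOpen U) (t : Γ(F, f ⁻¹ᵁ U))
    {V : X.Opens} (hV : V ≤ f ⁻¹ᵁ U) (h : F.presheaf.map (homOfLE hV).op t = 0) :
    G.presheaf.map (homOfLE hV).op (phiApp f φ U t) = 0 := by
  have hW := hU.preimage f
  refine TopCat.Sheaf.eq_of_locally_eq' ⟨G.presheaf, G.isSheaf⟩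
    (fun g : {g : Γ(X, f ⁻¹ᵁ U) // X.basicOpen g ≤ V} => X.basicOpen g.1) V (fun g => homOfLE g.2) ?_ _ _ fun g => ?_
  · intro x hx
    obtain ⟨g, hgV, hxg⟩ := hW.exists_basicOpen_le ⟨x, hx⟩ (hV hx)
    exact Opens.mem_iSup.2 ⟨⟨g, hgV⟩, hxg⟩
  · show G.presheaf.map (homOfLE g.2).op _ = G.presheaf.map (homOfLE g.2).op _
    rw [map_zero, Cohom.map_map_apply]
    have h' := congrArg (F.presheaf.map (homOfLE g.2).op) h
    rw [map_zero, Cohom.map_map_apply] at h'
    obtain ⟨n, hn⟩ := exists_pow_smul_eq_zero hW F g.1 t h'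
    have h2 : g.1 ^ n • phiApp f φ U t = 0 := by
      rw [← phiApp_smul, hn]
      exact (φ.val.app (op U)).hom.map_zero
    have h3 := congrArg (G.presheaf.map (homOfLE (X.basicOpen_le g.1)).op) h2
    rw [map_zero, Scheme.Modules.map_smul, map_pow] at h3
    exact ((isUnit_res g.1 n).smul_eq_zero).1 h3

/-- `y` is the value at `m` of a module homomorphism inducing `φ`. -/
def Good (W : X.Opens) (m : Γ(F, W)) (y : Γ(G, W)) : Prop :=
  ∀ (U : S.Opens) (_ : IsAffineOpen U) (V : X.Opens) (hW : V ≤ W) (hU : V ≤ f ⁻¹ᵁ U) (c : Γ(X, f ⁻¹ᵁ U))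
    (t : Γ(F, f ⁻¹ᵁ U)),
    F.presheaf.map (homOfLE hU).op t = X.presheaf.map (homOfLE hU).op c • F.presheaf.map (homOfLE hW).op m →
      G.presheaf.map (homOfLE hU).op (phiApp f φ U t) =
        X.presheaf.map (homOfLE hU).op c • G.presheaf.map (homOfLE hW).op y

variable {f φ}

theorem Good.res {W W' : X.Opens} (h : W' ≤ W) {m : Γ(F, W)} {y : Γ(G, W)} (hg : Good f φ W m y) :
    Good f φ W' (F.presheaf.map (homOfLE h).op m) (G.presheaf.map (homOfLE h).op y) := by
  intro U hU V hV hVU c t ht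
  rw [Cohom.map_map_apply] at ht ⊢
  exact hg U hU V (hV.trans h) hVU c t ht

theorem exists_chart (x : X) {W : X.Opens} (hx : x ∈ W) :
    ∃ (U : S.Opens) (_ : IsAffineOpen U) (g : Γ(X, f ⁻¹ᵁ U)), X.basicOpen g ≤ W ∧ x ∈ X.basicOpen g := by
  obtain ⟨U, hU, hxU, -⟩ := exists_isAffineOpen_mem_and_subset (x := f x) (U := ⊤) trivial
  obtain ⟨g, hgW, hxg⟩ := (hU.preimage f).exists_basicOpen_le ⟨x, hx⟩ hxU
  exact ⟨U, hU, g, hgW, hxg⟩

theorem Good.unique [F.IsQuasicoherent] {W : X.Opens} {m : Γ(F, W)} {y y' : Γ(G, W)} (h : Good f φ W m y)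
    (h' : Good f φ W m y') : y = y' := by
  refine TopCat.Sheaf.eq_of_locally_eq' ⟨G.presheaf, G.isSheaf⟩
    (fun p : {p : Σ U : S.affineOpens, Γ(X, f ⁻¹ᵁ U.1) // X.basicOpen p.2 ≤ W} => X.basicOpen p.1.2) W
    (fun p => homOfLE p.2) ?_ _ _ fun p => ?_
  · intro x hx
    obtain ⟨U, hU, g, hgW, hxg⟩ := exists_chart (f := f) x hx
    exact Opens.mem_iSup.2 ⟨⟨⟨⟨U, hU⟩, g⟩, hgW⟩, hxg⟩
  · obtain ⟨⟨⟨U, hU⟩, g⟩, hgW⟩ := p
    show G.presheaf.map (homOfLE hgW).op y = G.presheaf.map (homOfLE hgW).op y'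
    obtain ⟨n, t, ht⟩ := Cohom.exists_pow_smul_eq_map (hU.preimage f) F g (F.presheaf.map (homOfLE hgW).op m)
    rw [← map_pow] at ht
    have e := (h U hU _ hgW (X.basicOpen_le g) (g ^ n) t ht).symm.trans
      (h' U hU _ hgW (X.basicOpen_le g) (g ^ n) t ht)
    rw [map_pow] at e
    exact ((isUnit_res g n).smul_left_cancel).1 e

theorem exists_good [F.IsQuasicoherent] {U : S.Opens} (hU : IsAffineOpen U) (g : Γ(X, f ⁻¹ᵁ U))
    (m : Γ(F, X.basicOpen g)) : ∃ y, Good f φ (X.basicOpen g) m y := by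
  obtain ⟨n, t₀, ht₀⟩ := Cohom.exists_pow_smul_eq_map (hU.preimage f) F g m
  obtain ⟨u, hu⟩ := (isUnit_res g n)
  refine ⟨(↑u⁻¹ : Γ(X, X.basicOpen g)) • G.presheaf.map (homOfLE (X.basicOpen_le g)).op (phiApp f φ U t₀), ?_⟩
  intro U' hU' V hVg hVU' c t ht
  refine TopCat.Sheaf.eq_of_locally_eq' ⟨G.presheaf, G.isSheaf⟩
    (fun U'' : {U'' : S.affineOpens // U''.1 ≤ U ⊓ U'} => V ⊓ f ⁻¹ᵁ U''.1.1) V (fun U'' => homOfLE inf_le_left) ?_ _ _
    fun U'' => ?_
  · intro x hx
    have h1 : f x ∈ U := (X.basicOpen_le g) (hVg hx)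
    have h2 : f x ∈ U' := hVU' hx
    obtain ⟨_, ⟨U'', hA, rfl⟩, hxU, hle⟩ := S.isBasis_affineOpens.exists_subset_of_mem_open
      (show f x ∈ (U ⊓ U' : S.Opens) from ⟨h1, h2⟩) (U ⊓ U').2
    exact Opens.mem_iSup.2 ⟨⟨⟨U'', hA⟩, hle⟩, ⟨hx, hxU⟩⟩
  · obtain ⟨⟨U'', hA⟩, hle⟩ := U''
    have hlU : U'' ≤ U := hle.trans inf_le_left
    have hlU' : U'' ≤ U' := hle.trans inf_le_right
    let z : Γ(F, f ⁻¹ᵁ U'') :=
      X.presheaf.map (homOfLE (f.preimage_mono hlU)).op (g ^ n) • F.presheaf.map (homOfLE (f.preimage_mono hlU')).op t -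
      X.presheaf.map (homOfLE (f.preimage_mono hlU')).op c • F.presheaf.map (homOfLE (f.preimage_mono hlU)).op t₀
    have ht' := congrArg (F.presheaf.map (homOfLE (inf_le_left : V ⊓ f ⁻¹ᵁ U'' ≤ V)).op) ht
    have ht₀' := congrArg (F.presheaf.map (homOfLE (inf_le_left.trans hVg : V ⊓ f ⁻¹ᵁ U'' ≤ _)).op) ht₀
    simp only [Scheme.Modules.map_smul, map_pow, Cohom.map_map_apply, Cohom.ringMap_map_apply] at ht' ht₀'
    have hz := res_phiApp_eq_zero f φ hA z (inf_le_right : V ⊓ f ⁻¹ᵁ U'' ≤ _) (by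
      simp only [z, map_sub, Scheme.Modules.map_smul, map_pow, Cohom.map_map_apply, Cohom.ringMap_map_apply]
      rw [ht', ht₀', sub_eq_zero, smul_comm])
    simp only [z, phiApp_sub, phiApp_smul, map_sub] at hz
    rw [← phiApp_res f φ hlU' t, ← phiApp_res f φ hlU t₀] at hz
    simp only [Scheme.Modules.map_smul, map_pow, Cohom.map_map_apply, Cohom.ringMap_map_apply, sub_eq_zero] at hz
    show G.presheaf.map (homOfLE inf_le_left).op _ = G.presheaf.map (homOfLE inf_le_left).op _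
    simp only [Scheme.Modules.map_smul, Cohom.map_map_apply, Cohom.ringMap_map_apply]
    have hu' := congrArg (X.presheaf.map (homOfLE (inf_le_left.trans hVg : V ⊓ f ⁻¹ᵁ U'' ≤ _)).op) u.mul_inv
    rw [hu, map_mul, map_pow, map_one, Cohom.ringMap_map_apply] at hu'
    conv_lhs => rw [← one_smul Γ(X, V ⊓ f ⁻¹ᵁ U'') (G.presheaf.map _ (phiApp f φ U' t)), ← hu', mul_comm, mul_smul, hz]
    rw [smul_comm]

variable (f)

theorem exists_hom_map [F.IsQuasicoherent] (φ : (AMod.dirImg f).obj F ⟶ (AMod.dirImg f).obj G) :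
    ∃ w : F ⟶ G, (AMod.dirImg f).map w = φ := by
  let ι := Σ U : S.affineOpens, Γ(X, f ⁻¹ᵁ U.1)
  let B : ι → X.Opens := fun p => X.basicOpen p.2
  have hB : Opens.IsBasis (Set.range B) := by
    refine Opens.isBasis_iff_nbhd.2 fun {W x} hx => ?_
    obtain ⟨U, hU, g, hgW, hxg⟩ := exists_chart (f := f) x hx
    exact ⟨_, ⟨⟨⟨U, hU⟩, g⟩, rfl⟩, hxg, hgW⟩
  choose y hy using fun (p : ι) (m : Γ(F, B p)) => exists_good (φ := φ) p.1.2 p.2 m
  have hadd : ∀ (p : ι) (m m' : Γ(F, B p)), y p (m + m') = y p m + y p m' := by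
    intro p m m'
    obtain ⟨⟨U, hU⟩, g⟩ := p
    refine (hy _ _).unique (fun U' hU' V hV hVU c t ht => ?_)
    obtain ⟨n, s, hs⟩ := Cohom.exists_pow_smul_eq_map (hU.preimage f) F g m
    refine TopCat.Sheaf.eq_of_locally_eq' ⟨G.presheaf, G.isSheaf⟩
      (fun q : {q : Γ(X, f ⁻¹ᵁ U') // X.basicOpen q ≤ V} => X.basicOpen q.1) V (fun q => homOfLE q.2) ?_ _ _ fun q => ?_
    · intro x hx
      obtain ⟨q, hqV, hxq⟩ := (hU'.preimage f).exists_basicOpen_le ⟨x, hx⟩ (hVU hx)
      exact Opens.mem_iSup.2 ⟨⟨q, hqV⟩, hxq⟩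
    · obtain ⟨q, hqV⟩ := q
      show G.presheaf.map (homOfLE hqV).op _ = G.presheaf.map (homOfLE hqV).op _
      obtain ⟨k, a, ha⟩ := Cohom.exists_pow_smul_eq_map (hU'.preimage f) F q
        (X.presheaf.map (homOfLE (hqV.trans hVU)).op c • F.presheaf.map (homOfLE (hqV.trans hV)).op m)
      have ht' := congrArg (F.presheaf.map (homOfLE hqV).op) ht
      simp only [Scheme.Modules.map_smul, map_add, Cohom.map_map_apply, Cohom.ringMap_map_apply] at ht'
      have h1 := hy ⟨⟨U, hU⟩, g⟩ m U' hU' _ (hqV.trans hV) (X.basicOpen_le q) (q ^ k * c) a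
        (by rw [ha, map_mul, map_pow, mul_smul])
      have h2 := hy ⟨⟨U, hU⟩, g⟩ m' U' hU' _ (hqV.trans hV) (X.basicOpen_le q) (q ^ k * c) (q ^ k • t - a)
        (by rw [map_sub, Scheme.Modules.map_smul, ha, ht', map_mul, map_pow, mul_smul, smul_add, smul_add,
          add_sub_cancel_left])
      rw [phiApp_sub, phiApp_smul, map_sub, Scheme.Modules.map_smul, sub_eq_iff_eq_add, h1] at h2
      simp only [Scheme.Modules.map_smul, map_add, Cohom.map_map_apply, Cohom.ringMap_map_apply]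
      refine ((isUnit_res q k).smul_left_cancel).1 ?_
      rw [map_pow] at h2
      rw [h2, map_mul, map_pow, mul_smul, mul_smul, smul_add, smul_add, add_comm]
  have hsmul : ∀ (p : ι) (r : Γ(X, B p)) (m : Γ(F, B p)), y p (r • m) = r • y p m := by
    intro p r m
    refine (hy p _).unique (fun U' hU' V hV hVU c t ht => ?_)
    refine TopCat.Sheaf.eq_of_locally_eq' ⟨G.presheaf, G.isSheaf⟩
      (fun q : {q : Γ(X, f ⁻¹ᵁ U') // X.basicOpen q ≤ V} => X.basicOpen q.1) V (fun q => homOfLE q.2) ?_ _ _ fun q => ?_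
    · intro x hx
      obtain ⟨q, hqV, hxq⟩ := (hU'.preimage f).exists_basicOpen_le ⟨x, hx⟩ (hVU hx)
      exact Opens.mem_iSup.2 ⟨⟨q, hqV⟩, hxq⟩
    · obtain ⟨q, hqV⟩ := q
      show G.presheaf.map (homOfLE hqV).op _ = G.presheaf.map (homOfLE hqV).op _
      haveI := (hU'.preimage f).isLocalization_basicOpen q
      obtain ⟨⟨d, _, k, rfl⟩, hd⟩ := IsLocalization.surj (Submonoid.powers q)
        (X.presheaf.map (homOfLE (hqV.trans hV)).op r)
      change _ * X.presheaf.map (homOfLE (X.basicOpen_le q)).op (q ^ k) =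
        X.presheaf.map (homOfLE (X.basicOpen_le q)).op d at hd
      rw [map_pow] at hd
      have ht' := congrArg (F.presheaf.map (homOfLE hqV).op) ht
      simp only [Scheme.Modules.map_smul, Cohom.map_map_apply, smul_smul, map_mul, Cohom.ringMap_map_apply] at ht'
      have h1 := hy p m U' hU' _ (hqV.trans hV) (X.basicOpen_le q) (c * d) (q ^ k • t)
        (by rw [Scheme.Modules.map_smul, ht', smul_smul, map_mul, map_pow, ← hd]; congr 1; ring)
      simp only [Scheme.Modules.map_smul, phiApp_smul, map_mul, map_pow] at h1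
      simp only [Scheme.Modules.map_smul, Cohom.map_map_apply, Cohom.ringMap_map_apply, smul_smul, map_mul]
      refine ((isUnit_res q k).smul_left_cancel).1 ?_
      rw [h1, smul_smul, ← hd]
      congr 1
      ring
  obtain ⟨w, hw⟩ := AffHom.exists_hom_basis (M := F) (N := G) hB
    (fun p => { toFun := y p, map_add' := hadd p, map_smul' := hsmul p })
    (fun p q h m => ((hy p m).res h).unique (hy q _))
  refine ⟨w, ?_⟩
  apply (AMod.toOS (RelSpec.QCAlg.directImage f)).map_injective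
  refine AffHom.hom_ext fun U t => ?_
  show w.app (f ⁻¹ᵁ U.1) t = phiApp f φ U.1 t
  have e1 : X.basicOpen (1 : Γ(X, f ⁻¹ᵁ U.1)) = f ⁻¹ᵁ U.1 :=
    X.toRingedSpace.basicOpen_of_isUnit isUnit_one
  have h := hy ⟨U, 1⟩ (F.presheaf.map (homOfLE e1.le).op t) U.1 U.2 (f ⁻¹ᵁ U.1) e1.ge le_rfl 1 t
    (by rw [map_one, one_smul, Cohom.map_map_apply])
  rw [map_one, one_smul, Cohom.map_self_apply] at h
  have hw' := hw ⟨U, 1⟩ (F.presheaf.map (homOfLE e1.le).op t)
  refine Eq.trans ?_ h.symm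
  show _ = G.presheaf.map _ (y ⟨U, 1⟩ _)
  rw [← show _ = y ⟨U, 1⟩ _ from hw']
  refine Eq.trans ?_ (ConcreteCategory.congr_hom (w.mapPresheaf.naturality (homOfLE e1.ge).op) _)
  show _ = w.app _ (F.presheaf.map _ (F.presheaf.map _ t))
  exact congrArg (w.app _) ((Cohom.map_map_apply F (homOfLE e1.le) (homOfLE e1.ge) t).trans (Cohom.map_self_apply F _ t)).symm

theorem good_map (w : F ⟶ G) (W : X.Opens) (m : Γ(F, W)) :
    Good f ((AMod.dirImg f).map w) W m (w.app W m) := by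
  intro U hU V hW hVU c t ht
  have hn : ∀ {A A' : X.Opens} (h : A' ≤ A) (z : Γ(F, A)),
      G.presheaf.map (homOfLE h).op (w.app A z) = w.app A' (F.presheaf.map (homOfLE h).op z) :=
    fun h z => (ConcreteCategory.congr_hom (w.mapPresheaf.naturality (homOfLE h).op) z).symm
  show G.presheaf.map (homOfLE hVU).op (w.app (f ⁻¹ᵁ U) t) = _
  rw [hn, hn, ht, Scheme.Modules.Hom.app_smul]

theorem map_injective [F.IsQuasicoherent] {w w' : F ⟶ G} (h : (AMod.dirImg f).map w = (AMod.dirImg f).map w') :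
    w = w' := by
  refine AffHom.hom_ext fun U m => ?_
  have h' := good_map f w' U.1 m
  rw [← h] at h'
  exact (good_map f w U.1 m).unique h'

end GrothLib.DirImg8
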