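import Groth.Prelude.Def_RelSpec2

/-!
# Modules over a quasi-coherent algebra, as modules over the structure sheaf
-/

set_option autoImplicit false
set_option backward.isDefEq.respectTransparency false

universe u

open CategoryTheory CategoryTheory.Limits AlgebraicGeometry TopologicalSpace Opposite

namespace GrothLib.DirImg8

variable {S : Scheme.{u}}

instance faithful_toOS (B : RelSpec.QCAlg S) : (AMod.toOS B).Faithful where
  map_injective {M N} a b h := by
    refine SheafOfModules.Hom.ext ?_
    refine PresheafOfModules.hom_ext fun U => ?_
    ext m
    exact congr(($h).val.app U m)

end GrothLib.DirImg8
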