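import Groth.Agent.Lib.DirImg8.Hom
import Groth.Agent.Lib.DirImg8.Colim
import Groth.Agent.Lib.QCohAlg9.Functor
import Groth.Agent.Lib.AffHom.Basic
import Groth.Agent.Lib.ModDesc.Basic
import Groth.Agent.Lib.BCCoh.PullSec

/-!
# Every quasi-coherent module over `f_* O_X` is a direct image
-/

set_option autoImplicit false
set_option backward.isDefEq.respectTransparency false
set_option linter.style.haveILetI false

universe u

open CategoryTheory CategoryTheory.Limits AlgebraicGeometry TopologicalSpace Opposite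

noncomputable section

namespace GrothLib.DirImg8

variable {X S : Scheme.{u}} (f : X ⟶ S) [IsAffineHom f] (M : AMod (RelSpec.QCAlg.directImage f))

/-- Sections of a module over `f_* O_X`. -/
abbrev sec (U : S.Opens) : Type u := M.val.obj (op U)

instance moduleSec (U : S.Opens) : Module Γ(X, f ⁻¹ᵁ U) (sec f M U) :=
  inferInstanceAs (Module ((AMod.ringSheaf (RelSpec.QCAlg.directImage f)).obj.obj (op U)) (M.val.obj (op U)))

/-- Restriction of sections. -/
abbrev rsec {U V : S.Opens} (h : V ≤ U) (m : sec f M U) : sec f M V := M.val.map (homOfLE h).op m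

theorem rsec_smul {U V : S.Opens} (h : V ≤ U) (c : Γ(X, f ⁻¹ᵁ U)) (m : sec f M U) :
    rsec f M h (c • m) = X.presheaf.map (homOfLE (f.preimage_mono h)).op c • rsec f M h m :=
  M.val.map_smul (homOfLE h).op c m

variable (hM : ((AMod.toOS (RelSpec.QCAlg.directImage f)).obj M).IsQuasicoherent)

/-- The underlying module. -/
abbrev und : S.Modules := (AMod.toOS (RelSpec.QCAlg.directImage f)).obj M

/-- The pullback of the underlying module. -/
abbrev pb : X.Modules := (Scheme.Modules.pullback f).obj (und f M)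

include hM in
theorem exists_lam {U : S.Opens} (hU : IsAffineOpen U) :
    ∃ lam : Γ(pb f M, f ⁻¹ᵁ U) →ₗ[Γ(X, f ⁻¹ᵁ U)] sec f M U,
      (∀ n : Γ(und f M, U), lam (BCCoh.pullRes f (und f M) U (f ⁻¹ᵁ U) le_rfl n) = n) ∧
      ∀ (P : Γ(pb f M, f ⁻¹ᵁ U) → Prop), P 0 →
        (∀ n, P (BCCoh.pullRes f (und f M) U (f ⁻¹ᵁ U) le_rfl n)) →
        (∀ (c : Γ(X, f ⁻¹ᵁ U)) x, P x → P (c • x)) → (∀ x y, P x → P y → P (x + y)) → ∀ x, P x := by
  haveI : (und f M).IsQuasicoherent := hM
  let e : f ⁻¹ᵁ U ≤ f ⁻¹ᵁ U := le_rfl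
  letI : Algebra Γ(S, U) Γ(X, f ⁻¹ᵁ U) := (f.appLE U (f ⁻¹ᵁ U) e).hom.toAlgebra
  letI : Module Γ(S, U) Γ(pb f M, f ⁻¹ᵁ U) := Module.compHom _ (f.appLE U (f ⁻¹ᵁ U) e).hom
  haveI : IsScalarTower Γ(S, U) Γ(X, f ⁻¹ᵁ U) Γ(pb f M, f ⁻¹ᵁ U) :=
    IsScalarTower.of_algebraMap_smul fun _ _ => rfl
  obtain ⟨p, hp, hps⟩ := BCCoh.isBaseChange_pullRes f (und f M) hU (hU.preimage f) e
  letI : Module Γ(S, U) (sec f M U) := Module.compHom _ (f.appLE U (f ⁻¹ᵁ U) e).hom
  haveI : IsScalarTower Γ(S, U) Γ(X, f ⁻¹ᵁ U) (sec f M U) :=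
    IsScalarTower.of_algebraMap_smul fun _ _ => rfl
  let g : Γ(und f M, U) →ₗ[Γ(S, U)] sec f M U :=
    { toFun := fun n => n
      map_add' := fun _ _ => rfl
      map_smul' := fun r n => by
        show (show Γ(X, f ⁻¹ᵁ U) from f.app U r) • (show sec f M U from n) =
          (show Γ(X, f ⁻¹ᵁ U) from f.appLE U (f ⁻¹ᵁ U) e r) • (show sec f M U from n)
        rw [Scheme.Hom.appLE_eq_app] }
  exact ⟨hp.lift g, fun n => (congrArg _ (hps n).symm).trans (hp.lift_eq g n),
    fun P h0 hpl hs ha x => hp.inductionOn x P h0 (fun n => (hps n).symm ▸ hpl n) hs ha⟩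

/-- The action map on an affine open. -/
def lam (U : S.affineOpens) : Γ(pb f M, f ⁻¹ᵁ U.1) →ₗ[Γ(X, f ⁻¹ᵁ U.1)] sec f M U.1 :=
  (exists_lam f M hM U.2).choose

theorem lam_pullRes (U : S.affineOpens) (n : Γ(und f M, U.1)) :
    lam f M hM U (BCCoh.pullRes f (und f M) U.1 (f ⁻¹ᵁ U.1) le_rfl n) = n :=
  (exists_lam f M hM U.2).choose_spec.1 n

theorem lam_res {U V : S.affineOpens} (h : V.1 ≤ U.1) (x : Γ(pb f M, f ⁻¹ᵁ U.1)) :
    rsec f M h (lam f M hM U x) =
      lam f M hM V ((pb f M).presheaf.map (homOfLE (f.preimage_mono h)).op x) := by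
  refine (exists_lam f M hM U.2).choose_spec.2 (fun x => rsec f M h (lam f M hM U x) =
      lam f M hM V ((pb f M).presheaf.map (homOfLE (f.preimage_mono h)).op x)) ?_ ?_ ?_ ?_ x
  · rw [map_zero, map_zero, map_zero]
    exact map_zero (M.val.map (homOfLE h).op).hom
  · intro n
    rw [lam_pullRes, BCCoh.pullRes_res f (und f M) h le_rfl le_rfl (f.preimage_mono h) n, lam_pullRes]
    rfl
  · intro c x hx
    rw [map_smul, rsec_smul, hx, Scheme.Modules.map_smul, map_smul]
  · intro x y hx hy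
    rw [map_add, map_add, map_add, ← hx, ← hy]
    exact map_add (M.val.map (homOfLE h).op).hom _ _

include hM in
/-- The action map `f_* f^* M ⟶ M`, an epimorphism of modules over `f_* O_X`. -/
theorem exists_epi :
    ∃ (G : X.Modules) (φ : (AMod.dirImg f).obj G ⟶ M), G.IsQuasicoherent ∧ Epi φ := by
  haveI : (und f M).IsQuasicoherent := hM
  have hlin : ∀ (U : S.affineOpens) (r : Γ(S, U.1)) (x : Γ(pb f M, f ⁻¹ᵁ U.1)),
      lam f M hM U (f.app U.1 r • x) = (show Γ(X, f ⁻¹ᵁ U.1) from f.app U.1 r) • lam f M hM U x :=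
    fun U r x => map_smul _ _ _
  let ψ : ∀ U : S.affineOpens, Γ((Scheme.Modules.pushforward f).obj (pb f M), U.1) →ₗ[Γ(S, U.1)] Γ(und f M, U.1) :=
    fun U =>
      { toFun := fun x => lam f M hM U x
        map_add' := fun x y => map_add (lam f M hM U) x y
        map_smul' := fun r x => hlin U r x }
  obtain ⟨a, ha⟩ := AffHom.exists_hom ψ fun U V h m => lam_res f M hM h m
  have hsmul : ∀ (W : (S.Opens)ᵒᵖ) (c : (AMod.ringSheaf (RelSpec.QCAlg.directImage f)).obj.obj W)
      (x : ((AMod.dirImg f).obj (pb f M)).val.obj W),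
      a.app W.unop (show Γ((Scheme.Modules.pushforward f).obj (pb f M), W.unop) from c • x) =
        (show M.val.obj W from c • (show M.val.obj W from a.app W.unop x)) := by
    intro W c x
    refine TopCat.Sheaf.eq_of_locally_eq' ⟨(und f M).presheaf, (und f M).isSheaf⟩
      (fun V : {V : S.affineOpens // V.1 ≤ W.unop} => V.1.1) W.unop (fun V => homOfLE V.2) ?_ _ _ fun V => ?_
    · intro y hy
      obtain ⟨_, ⟨V, hV, rfl⟩, hyV, hle⟩ :=
        S.isBasis_affineOpens.exists_subset_of_mem_open hy W.unop.2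
      exact Opens.mem_iSup.2 ⟨⟨⟨V, hV⟩, hle⟩, hyV⟩
    · obtain ⟨⟨V, hV⟩, hle⟩ := V
      have nat : ∀ z, (und f M).presheaf.map (homOfLE hle).op (a.app W.unop z) =
          a.app V (((Scheme.Modules.pushforward f).obj (pb f M)).presheaf.map (homOfLE hle).op z) :=
        fun z => (ConcreteCategory.congr_hom (a.mapPresheaf.naturality (homOfLE hle).op) z).symm
      refine (nat _).trans ?_
      rw [ha ⟨V, hV⟩]
      show lam f M hM ⟨V, hV⟩ ((pb f M).presheaf.map (homOfLE (f.preimage_mono hle)).op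
          ((show Γ(X, f ⁻¹ᵁ W.unop) from c) • (show Γ(pb f M, f ⁻¹ᵁ W.unop) from x))) = _
      rw [Scheme.Modules.map_smul, map_smul]
      refine Eq.trans ?_ (rsec_smul f M hle c _).symm
      refine congrArg _ ?_
      exact ((nat x).trans (ha ⟨V, hV⟩ _)).symm
  let φ : (AMod.dirImg f).obj (pb f M) ⟶ M := ⟨PresheafOfModules.homMk a.mapPresheaf hsmul⟩
  refine ⟨pb f M, φ, FittSheaf.isQuasicoherent_pullback f _, ?_⟩
  haveI : Epi a := ⟨fun {P} g g' h => AffHom.hom_ext fun U m => by
    have := congr($(h).app U.1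
      (BCCoh.pullRes f (und f M) U.1 (f ⁻¹ᵁ U.1) le_rfl m))
    rw [Scheme.Modules.Hom.comp_app, Scheme.Modules.Hom.comp_app] at this
    simp only [ConcreteCategory.comp_apply] at this
    rw [ha U] at this
    change g.app U.1 (lam f M hM U _) = g'.app U.1 (lam f M hM U _) at this
    rwa [lam_pullRes] at this⟩
  exact (AMod.toOS (RelSpec.QCAlg.directImage f)).epi_of_epi_map (show Epi a from inferInstance)

instance preservesFiniteLimits_dirImg : PreservesFiniteLimits (AMod.dirImg f) := by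
  haveI : PreservesLimitsOfSize.{0, 0} (Scheme.Modules.pushforward f) :=
    (Scheme.Modules.pullbackPushforwardAdjunction f).rightAdjoint_preservesLimits
  haveI : PreservesFiniteLimits (AMod.dirImg f ⋙ AMod.toOS (RelSpec.QCAlg.directImage f)) :=
    inferInstanceAs (PreservesFiniteLimits (Scheme.Modules.pushforward f))
  haveI : PreservesFiniteLimits (AMod.toOS (RelSpec.QCAlg.directImage f)) :=
    QCohAlg9.preservesFiniteLimits_restrictScalars _
  haveI : (AMod.toOS (RelSpec.QCAlg.directImage f)).ReflectsIsomorphisms :=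
    reflectsIsomorphisms_of_reflectsMonomorphisms_of_reflectsEpimorphisms _
  exact preservesFiniteLimits_of_reflects_of_preserves _ (AMod.toOS (RelSpec.QCAlg.directImage f))

theorem epi_dirImg_map {F G : X.Modules} [F.IsQuasicoherent] [G.IsQuasicoherent] (v : F ⟶ G) [Epi v] :
    Epi ((AMod.dirImg f).map v) := by
  haveI : Epi ((Scheme.Modules.pushforward f).map v) := ⟨fun {P} a b h => AffHom.hom_ext fun U m => by
    obtain ⟨n, rfl⟩ := ModDesc.app_surjective_of_epi v (U.2.preimage f) m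
    exact congr($(h).app U.1 n)⟩
  exact (AMod.toOS (RelSpec.QCAlg.directImage f)).epi_of_epi_map
    (show Epi ((Scheme.Modules.pushforward f).map v) from inferInstance)

include hM in
/-- A quasi-coherent module over `f_* O_X` is a direct image. -/
theorem exists_iso_dirImg :
    ∃ F : X.Modules, F.IsQuasicoherent ∧ Nonempty ((AMod.dirImg f).obj F ≅ M) := by
  haveI : (und f M).IsQuasicoherent := hM
  obtain ⟨G, φ, hG, hφ⟩ := exists_epi f M hM
  haveI := hG
  haveI : PreservesFiniteLimits (AMod.toOS (RelSpec.QCAlg.directImage f)) :=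
    QCohAlg9.preservesFiniteLimits_restrictScalars _
  have hK : (und f (kernel φ)).IsQuasicoherent := by
    haveI : ((AMod.toOS (RelSpec.QCAlg.directImage f)).obj ((AMod.dirImg f).obj G)).IsQuasicoherent :=
      QCoh.isQuasicoherent_pushforward f G
    haveI := QCoh.isQuasicoherent_kernel ((AMod.toOS (RelSpec.QCAlg.directImage f)).map φ)
    exact QCoh.isQuasicoherent_of_iso
      (PreservesKernel.iso (AMod.toOS (RelSpec.QCAlg.directImage f)) φ).symm
  obtain ⟨G', q, hG', hq⟩ := exists_epi f (kernel φ) hK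
  haveI := hG'
  obtain ⟨w, hw⟩ := exists_hom_map f (q ≫ kernel.ι φ)
  haveI := QCoh.isQuasicoherent_cokernel w
  let π := cokernel.π w
  haveI : (kernel π).IsQuasicoherent := QCoh.isQuasicoherent_kernel π
  let l : G' ⟶ kernel π := Abelian.factorThruImage w
  have hl : l ≫ kernel.ι π = w := Abelian.image.fac w
  haveI : Epi l := inferInstanceAs (Epi (Abelian.factorThruImage w))
  haveI : Epi ((AMod.dirImg f).map l) := epi_dirImg_map f l
  haveI : Epi ((AMod.dirImg f).map π) := epi_dirImg_map f π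
  refine ⟨cokernel w, inferInstance, ?_⟩
  let D := AMod.dirImg f
  haveI : D.PreservesZeroMorphisms := Functor.preservesZeroMorphisms_of_preserves_terminal_object
  -- `D π` is a cokernel of `D w`
  have h1 := Abelian.epiIsCokernelOfKernel _
    (isLimitForkMapOfIsLimit' D (kernel.condition π) (kernelIsKernel π))
  have e1 : D.map w = D.map l ≫ D.map (kernel.ι π) := by rw [← D.map_comp, hl]
  have h1' := isCokernelEpiComp h1 (D.map l) e1
  -- `φ` is a cokernel of `D w`
  have h2 := Abelian.epiIsCokernelOfKernel _ (kernelIsKernel φ)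
  have h2' := isCokernelEpiComp h2 q hw
  exact ⟨h1'.coconePointUniqueUpToIso h2'⟩

end GrothLib.DirImg8
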