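import Groth.Agent.Lib.DirImg8.Basic
import Groth.Agent.Lib.QCohAlg9.Finite
import Groth.Agent.Lib.QCoh.FT
import Groth.Agent.Lib.QCoh.Qcqs
import Groth.Agent.Lib.ModDesc.Basic
import Mathlib.AlgebraicGeometry.Morphisms.Affine

/-!
# Finite type of a direct image along an affine morphism
-/

set_option autoImplicit false
set_option backward.isDefEq.respectTransparency false
set_option linter.style.haveILetI false

universe u

open CategoryTheory CategoryTheory.Limits AlgebraicGeometry TopologicalSpace Opposite

namespace GrothLib.DirImg8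

open GrothLib.QCohAlg9

variable {X S : Scheme.{u}} (f : X ⟶ S) [IsAffineHom f]

theorem isQuasicoherent_toOS_dirImg (F : X.Modules) [F.IsQuasicoherent] :
    ((SheafOfModules.restrictScalars (AMod.strHom (RelSpec.QCAlg.directImage f))).obj
      ((AMod.dirImg f).obj F) : S.Modules).IsQuasicoherent :=
  GrothLib.QCoh.isQuasicoherent_pushforward f F

theorem isQuasicoherent_toOS_unit :
    ((SheafOfModules.restrictScalars (AMod.strHom (RelSpec.QCAlg.directImage f))).obj
      (SheafOfModules.unit (AMod.ringSheaf (RelSpec.QCAlg.directImage f))) : S.Modules).IsQuasicoherent :=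
  haveI : (SheafOfModules.unit X.ringCatSheaf : X.Modules).IsQuasicoherent := inferInstance
  GrothLib.QCoh.isQuasicoherent_pushforward f (SheafOfModules.unit X.ringCatSheaf)

/-- The direct image is of finite type if the sections are. -/
theorem isFiniteType_dirImg_of_moduleFinite (F : X.Modules) [F.IsQuasicoherent]
    (h : ∀ W : S.Opens, IsAffineOpen W → Module.Finite Γ(X, f ⁻¹ᵁ W) Γ(F, f ⁻¹ᵁ W)) :
    SheafOfModules.IsFiniteType.{u} (R := AMod.ringSheaf (RelSpec.QCAlg.directImage f))
      ((AMod.dirImg f).obj F) := by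
  haveI := isQuasicoherent_toOS_unit f
  haveI := isQuasicoherent_toOS_dirImg f F
  let B' := AMod.ringSheaf (RelSpec.QCAlg.directImage f)
  let α := AMod.strHom (RelSpec.QCAlg.directImage f)
  let F' := (AMod.dirImg f).obj F
  have hW (U : S.affineOpens) : IsAffineOpen (topObj U.1).left := by
    rw [topObj_left]; exact U.2
  choose n b hb using fun U : S.affineOpens =>
    (h _ (hW U)).exists_fin (R := Γ(X, f ⁻¹ᵁ (topObj U.1).left)) (M := Γ(F, f ⁻¹ᵁ (topObj U.1).left))
  let b' (U : S.affineOpens) : ULift.{u} (Fin (n U)) → (F'.over U.1).val.obj (op (topObj U.1)) :=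
    fun i => b U i.down
  have hb' (U : S.affineOpens) :
      Submodule.span ((B'.over U.1).obj.obj (op (topObj U.1))) (Set.range (b' U)) = ⊤ :=
    eq_top_iff.2 (fun x _ => by
      have hx : x ∈ Submodule.span Γ(X, f ⁻¹ᵁ (topObj U.1).left) (Set.range (b U)) :=
        (hb U).symm ▸ Submodule.mem_top
      have hr : Set.range (b' U) = Set.range (b U) := by
        ext y; exact ⟨fun ⟨i, hi⟩ => ⟨i.down, hi⟩, fun ⟨i, hi⟩ => ⟨⟨i⟩, hi⟩⟩
      rw [hr]
      exact hx)
  let σ : SheafOfModules.LocalGeneratorsData.{u} (R := B') F' :=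
    { I := S.affineOpens
      X := fun U => U.1
      coversTop := (Opens.coversTop_iff _ _).2 (iSup_affineOpens_eq_top S)
      generators := fun U => generatingSections α U.2 (F'.over U.1)
        (isQuasicoherent_toMod_over α F' U.1) (b' U) (hb' U) }
  have hσ : σ.IsFiniteType := by
    constructor
    intro U
    exact ⟨inferInstanceAs (Finite (ULift.{u} (Fin (n U))))⟩
  constructor
  exact ⟨σ, hσ⟩

/-- If the direct image is of finite type then sections on a small affine neighbourhood are finite. -/
theorem exists_moduleFinite_of_isFiniteType_dirImg (F : X.Modules) [F.IsQuasicoherent]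
    (h : SheafOfModules.IsFiniteType.{u} (R := AMod.ringSheaf (RelSpec.QCAlg.directImage f))
      ((AMod.dirImg f).obj F)) (x : S) :
    ∃ W : S.Opens, x ∈ W ∧ IsAffineOpen W ∧ Module.Finite Γ(X, f ⁻¹ᵁ W) Γ(F, f ⁻¹ᵁ W) := by
  haveI := isQuasicoherent_toOS_unit f
  haveI := isQuasicoherent_toOS_dirImg f F
  let B' := AMod.ringSheaf (RelSpec.QCAlg.directImage f)
  let α := AMod.strHom (RelSpec.QCAlg.directImage f)
  let F' := (AMod.dirImg f).obj F
  obtain ⟨σ, hσ⟩ := h.exists_localGeneratorsData
  obtain ⟨i, hi⟩ := ((Opens.coversTop_iff _ _).1 σ.coversTop).exists_mem x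
  obtain ⟨V, hV, hxV, hle⟩ := exists_isAffineOpen_mem_and_subset hi
  have := hσ.isFiniteType i
  obtain ⟨G, hG⟩ := exists_generatingSections_of_le hle (σ.generators i)
  refine ⟨(topObj V).left, by rw [topObj_left]; exact hxV, by rw [topObj_left]; exact hV, ?_⟩
  haveI : IsAffine (V : Scheme.{u}) := hV
  haveI : Finite G.I := hG.finite
  haveI := isQuasicoherent_toMod_free α V G.I
  haveI := isQuasicoherent_toMod_over α F' V
  haveI : Epi G.π := G.epi
  haveI : Epi ((toMod α V).map G.π) := inferInstance
  have hs : Function.Surjective (G.π.val.app (op (topObj V))).hom :=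
    GrothLib.ModDesc.app_surjective_of_epi ((toMod α V).map G.π)
      (isAffineOpen_top (V : Scheme.{u}))
  haveI := moduleFinite_free (R := B'.over V) G.I (op (topObj V))
  exact Module.Finite.of_surjective _ hs

/-- A quasi-coherent module is of finite type iff its direct image along an affine morphism is. -/
theorem isFiniteType_iff_dirImg (F : X.Modules) [F.IsQuasicoherent] :
    SheafOfModules.IsFiniteType.{u} (R := X.ringCatSheaf) F ↔
      SheafOfModules.IsFiniteType.{u} (R := AMod.ringSheaf (RelSpec.QCAlg.directImage f))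
        ((AMod.dirImg f).obj F) := by
  refine ⟨fun h => isFiniteType_dirImg_of_moduleFinite f F fun W hW =>
    QCoh.moduleFinite_of_isFiniteType F h (hW.preimage f), fun h => ?_⟩
  choose W hxW hW hfin using exists_moduleFinite_of_isFiniteType_dirImg f F h
  refine QCoh.isFiniteType_of_moduleFinite F (fun x : X => f ⁻¹ᵁ W (f.base x))
    (TopologicalSpace.IsOpenCover.mk ?_) (fun x => (hW _).preimage f) fun x => hfin _
  exact eq_top_iff.2 fun x _ => Opens.mem_iSup.2 ⟨x, hxW _⟩

end GrothLib.DirImg8
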